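import Groth.Agent.Lib.ArtinFun.CMTwo.Glob
import Groth.Agent.Lib.DerivedOX.PullTensor
import Groth.Agent.Lib.ZarCoh.Morph
import Groth.Prelude.Def_Omega2

/-!
# `H¹` of `Hom(I, O/I)` from `H¹` of the normal sheaf
-/

noncomputable section

universe u

open CategoryTheory CategoryTheory.Limits AlgebraicGeometry TopologicalSpace

namespace Groth.Agent.Lib.ArtinFun.CMTwo

open Groth.Agent.Lib

variable {X : Scheme.{u}} (I₀ : X.IdealSheafData)

/-- `H¹(X, Hom(I, O/I))` vanishes with `H¹(Y, N)`. -/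
theorem subsingleton_H1_hom_quotMod [DCoh.HasSheafHom (ClSub.idealMod I₀)]
    [DCoh.HasSheafHom (Omega.conormal I₀.subschemeι)]
    (h : Subsingleton (Coh.HH I₀.subscheme ((DCoh.sheafHom (Omega.conormal I₀.subschemeι)).obj
      (Coh.structureModule I₀.subscheme)) 1)) :
    Subsingleton (Coh.HH X ((DCoh.sheafHom (ClSub.idealMod I₀)).obj (ClSub.quotMod I₀)) 1) := by
  let i := I₀.subschemeι
  let C := Omega.conormal i
  let I := ClSub.idealMod I₀
  have hC : (Scheme.Modules.pullback i).obj I = C := by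
    show _ = Omega.conormal i
    unfold Omega.conormal
    exact (congrArg (fun J => (Scheme.Modules.pullback i).obj (ClSub.idealMod J)) I₀.ker_subschemeι).symm
  let adj₁ : DCoh.tensorBi.obj I ⋙ Scheme.Modules.pullback i ⊣ Scheme.Modules.pushforward i ⋙ DCoh.sheafHom I :=
    (DCoh.sheafHomAdj I).comp (Scheme.Modules.pullbackPushforwardAdjunction i)
  let adj₂ : Scheme.Modules.pullback i ⋙ DCoh.tensorBi.obj C ⊣ DCoh.sheafHom C ⋙ Scheme.Modules.pushforward i :=
    (Scheme.Modules.pullbackPushforwardAdjunction i).comp (DCoh.sheafHomAdj C)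
  let eC : DCoh.tensorBi.obj ((Scheme.Modules.pullback i).obj I) ≅ DCoh.tensorBi.obj C :=
    DCoh.tensorBi.mapIso (eqToIso hC)
  let η : DCoh.tensorBi.obj I ⋙ Scheme.Modules.pullback i ≅ Scheme.Modules.pullback i ⋙ DCoh.tensorBi.obj C :=
    (NatIso.ofComponents (fun N => ((DerivedOX.PullTensor.pullComparison i).iso I N).symm) fun {N N'} b => by
      have h1 := (DerivedOX.PullTensor.pullComparison i).natural₂ I b
      exact (Iso.comp_inv_eq _).2 (((Category.assoc _ _ _).trans ((Iso.eq_inv_comp _).2 h1.symm).symm).symm) :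
      DCoh.tensorBi.obj I ⋙ Scheme.Modules.pullback i ≅
        Scheme.Modules.pullback i ⋙ DCoh.tensorBi.obj ((Scheme.Modules.pullback i).obj I)) ≪≫
      Functor.isoWhiskerLeft (Scheme.Modules.pullback i) eC
  let e : Scheme.Modules.pushforward i ⋙ DCoh.sheafHom I ≅ DCoh.sheafHom C ⋙ Scheme.Modules.pushforward i :=
    (adj₁.ofNatIsoLeft η).rightAdjointUniq adj₂
  refine SqZeroLift.Criteria.subsingleton_HH_of_iso (e.app (Coh.structureModule I₀.subscheme)).symm ?_
  let M := (DCoh.sheafHom C).obj (Coh.structureModule I₀.subscheme)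
  have hB : Opens.IsBasis {W : Opens X.toTopCat | IsAffineOpen (X := X) W} := X.isBasis_affineOpens
  have hinj : Function.Injective (ZarCoh.PushH.pushH i.base (Coh.toAb M) 1) :=
    (ZarCoh.Compare.hTop (Coh.toAb M) 1).symm.injective.comp
      (((ZarCoh.Push.bijective_and_injective ⊤ hB 0 (Coh.toAb M) (ZarCoh.Push.van_zero (Coh.toAb M))).2).comp
        (ZarCoh.Compare.hTop _ 1).injective)
  haveI : Subsingleton (CohTop.H (Coh.toAb M) 1) := h
  exact hinj.subsingleton

end Groth.Agent.Lib.ArtinFun.CMTwo
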