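import Groth.Agent.Lib.ArtinFun.LciLocal
import Groth.Agent.Lib.ArtinFun.HilbertBurchTransfer
import Groth.Agent.S11449
import Groth.Agent.Lib.HB62.Spread
import Groth.Agent.Lib.Cyc.SmoothReg
import Groth.Agent.Lib.Excellent.Transport
import Groth.Agent.Lib.Cyc.Dev.Scheme

/-!
# Cohen-Macaulay subschemes of codimension two lift locally
-/

noncomputable section

universe u

open CategoryTheory AlgebraicGeometry ArtFun ArtFun.Art IsLocalRing
open scoped TensorProduct

namespace Groth.Agent.Lib.ArtinFun.CMTwo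

open FlatIdealFP LocalHilbAffine LocalHilbGlue LocalHilbTangent LiftAlg LciLocal LiftExt HB

variable {k : Type u} [Field k]

section Alg

variable (S : Type u) [CommRing S] [Algebra k S] {A : Art k k} {r : ℕ}

lemma mem_smul_pi_iff (v : Fin r → A ⊗[k] S) :
    v ∈ maximalIdeal A • (⊤ : Submodule A (Fin r → A ⊗[k] S)) ↔ ∀ i, res0 S A (v i) = 0 :=
  (mem_smul_top_pi _ _).trans (forall_congr' fun _ => mem_mC_iff S _)

/-- The conditions on the fibre. -/
theorem conditions (φ : Matrix (Fin (r + 1)) (Fin r) (A ⊗[k] S)) (φ₀ : Matrix (Fin (r + 1)) (Fin r) S)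
    (hφ : φ.map (res0 S A) = φ₀) (hinj : Function.Injective φ₀.mulVecLin)
    (hex : LinearMap.range φ₀.mulVecLin = LinearMap.ker (lc (fs φ₀))) :
    (∀ u, φ.mulVecLin u ∈ maximalIdeal A • (⊤ : Submodule A (Fin (r + 1) → A ⊗[k] S)) →
      u ∈ maximalIdeal A • (⊤ : Submodule A (Fin r → A ⊗[k] S))) ∧
    (∀ v, lc (fs φ) v ∈ (maximalIdeal A).map (algebraMap A (A ⊗[k] S)) →
      ∃ u, v - φ.mulVecLin u ∈ maximalIdeal A • (⊤ : Submodule A (Fin (r + 1) → A ⊗[k] S))) := by
  subst hφ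
  refine ⟨fun u hu => ?_, fun v hv => ?_⟩
  · rw [mem_smul_pi_iff] at hu ⊢
    have h0 : (φ.map (res0 S A)).mulVecLin (res0 S A ∘ u) = 0 := by
      rw [← map_mulVec]
      exact funext hu
    exact congrFun (hinj (h0.trans (map_zero _).symm))
  · have h0 : res0 S A ∘ v ∈ LinearMap.ker (lc (fs (φ.map (res0 S A)))) := by
      rw [LinearMap.mem_ker, map_fs, ← map_lc]
      exact (mem_mC_iff S _).1 hv
    rw [← hex] at h0
    obtain ⟨u₀, hu₀⟩ := h0
    refine ⟨fun i => (1 : A) ⊗ₜ u₀ i, (mem_smul_pi_iff S _).2 fun i => ?_⟩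
    have h1 : res0 S A ∘ (fun i => (1 : A) ⊗ₜ[k] u₀ i) = u₀ := funext fun j => by
      rw [Function.comp_apply, res0_tmul, map_one, one_smul]
    have h2 := congrFun (map_mulVec (res0 S A) φ (fun i => (1 : A) ⊗ₜ[k] u₀ i)) i
    rw [Function.comp_apply, h1, hu₀, Function.comp_apply] at h2
    rw [Pi.sub_apply, map_sub, h2, sub_self]

/-- A determinantal ideal of codimension two lifts. -/
theorem exists_lift_HB [Algebra.FiniteType k S] [LocCoh.IsCohenMacaulayRing S] {A' : Art k k} (p : A' ⟶ A)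
    (hp : Function.Surjective p) (φ₀ : Matrix (Fin (r + 1)) (Fin r) S) (hinj : Function.Injective φ₀.mulVecLin)
    (hex : LinearMap.range φ₀.mulVecLin = LinearMap.ker (lc (fs φ₀)))
    (hcodim : ∀ q : Ideal S, q.IsPrime → Ideal.span (Set.range (fs φ₀)) ≤ q → (2 : ℕ∞) ≤ q.height)
    (I : Ideal (A ⊗[k] S)) [Module.Flat A ((A ⊗[k] S) ⧸ I)]
    (hI : I.map (res0 S A) = Ideal.span (Set.range (fs φ₀))) :
    ∃ J' : Ideal (A' ⊗[k] S), J'.map (tmap S p) = I ∧ Module.Flat A' ((A' ⊗[k] S) ⧸ J') := by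
  haveI : IsNoetherianRing (A ⊗[k] S) := Algebra.FiniteType.isNoetherianRing A (A ⊗[k] S)
  let N := (maximalIdeal A).map (algebraMap A (A ⊗[k] S))
  have hker : RingHom.ker (res0 S A) = N := Ideal.ext fun z => (mem_mC_iff S z).symm
  let e : ((A ⊗[k] S) ⧸ N) ≃+* S :=
    (Ideal.quotEquivOfEq hker.symm).trans (RingHom.quotientKerEquivOfSurjective (res0_surjective S A))
  haveI : LocCoh.IsCohenMacaulayRing ((A ⊗[k] S) ⧸ N) :=
    Groth.Agent.Lib.Excellent.Transport.isoInvariant_isCohenMacaulayRing _ _ e.symm inferInstance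
  let φ : Matrix (Fin (r + 1)) (Fin r) (A ⊗[k] S) := φ₀.map fun a => (1 : A) ⊗ₜ a
  have hφ : φ.map (res0 S A) = φ₀ := Matrix.ext fun i j => by
    show res0 S A ((1 : A) ⊗ₜ φ₀ i j) = _
    rw [res0_tmul, map_one, one_smul]
  obtain ⟨-, hb⟩ := conditions S φ φ₀ hφ hinj hex
  have hspan : (Ideal.span (Set.range (fs φ))).map (res0 S A) = Ideal.span (Set.range (fs φ₀)) := by
    rw [Ideal.map_span, ← Set.range_comp, ← map_fs, hφ]
  obtain ⟨ψ, hψ, hIψ⟩ := exists_matrix_lift (maximalIdeal A) le_rfl I φ (by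
      refine Ideal.comap_injective_of_surjective _ Ideal.Quotient.mk_surjective ?_
      have h1 := congrArg (Ideal.comap (res0 S A)) (hI.trans hspan.symm)
      rw [Ideal.comap_map_of_surjective _ (res0_surjective S A), Ideal.comap_map_of_surjective _ (res0_surjective S A),
        ← RingHom.ker_eq_comap_bot, hker] at h1
      rw [Ideal.comap_map_of_surjective _ Ideal.Quotient.mk_surjective,
        Ideal.comap_map_of_surjective _ Ideal.Quotient.mk_surjective, ← RingHom.ker_eq_comap_bot, Ideal.mk_ker]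
      exact h1) hb fun q hq hle => by
    haveI := hq
    refine le_of_le_of_eq (hcodim (q.comap e.symm.toRingHom) inferInstance ?_) (RingEquiv.height_comap e.symm q)
    rw [← hφ, map_fs, Ideal.span_le]
    rintro _ ⟨i, rfl⟩
    show e.symm (res0 S A (fs φ i)) ∈ q
    rw [show e.symm (res0 S A (fs φ i)) = Ideal.Quotient.mk N (fs φ i) from
      e.symm_apply_eq.2 rfl]
    exact hle (Ideal.subset_span ⟨i, rfl⟩)
  choose w hw using fun i j => tmap_surjective S hp (ψ i j)
  have hwψ : (Matrix.of w).map (tmap S p) = ψ := Matrix.ext fun i j => hw i j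
  have hw0 : (Matrix.of w).map (res0 S A') = φ₀ := Matrix.ext fun i j => by
    show res0 S A' (w i j) = φ₀ i j
    rw [← res0_tmap S p, hw, ← sub_add_cancel (ψ i j) (φ i j), map_add, (mem_mC_iff S _).1 (hψ i j), zero_add]
    exact congrFun (congrFun hφ i) j
  obtain ⟨ha', hb'⟩ := conditions S (Matrix.of w) φ₀ hw0 hinj hex
  obtain ⟨-, -, hflat⟩ := exact_of_fibre (Matrix.of w) ha' hb'
  refine ⟨Ideal.span (Set.range (fs (Matrix.of w))), ?_, hflat⟩
  rw [hIψ, Ideal.map_span, ← Set.range_comp, ← map_fs, hwψ]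

end Alg

variable {X : Scheme.{u}} [X.Over (Spec (CommRingCat.of k))] [Smooth (X ↘ Spec (CommRingCat.of k))]
  (I₀ : X.IdealSheafData)

/-- Sections are of finite type. -/
theorem finiteType_sec (U : X.affineOpens) : Algebra.FiniteType k (Sec (X ↘ Spec (CommRingCat.of k)) U) := by
  have h := HasRingHomProperty.appLE @LocallyOfFiniteType (X ↘ Spec (CommRingCat.of k)) inferInstance
    ⟨⊤, isAffineOpen_top _⟩ U le_top
  exact h.comp (RingHom.FiniteType.of_surjective _
    (Scheme.ΓSpecIso (CommRingCat.of k)).commRingCatIsoToRingEquiv.symm.surjective)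

/-- The local lift on an affine open where the ideal is determinantal. -/
theorem exists_lift_at (hcodim : ∀ y : I₀.subscheme, ringKrullDim (I₀.subscheme.presheaf.stalk y) + 2 =
      ringKrullDim (X.presheaf.stalk (I₀.subschemeι.base y)))
    {A' A : Art k k} (p : A' ⟶ A) (hp : Art.IsSemismallExt p)
    (z : (localHilb X (X ↘ Spec (CommRingCat.of k)) I₀).obj A) (V : X.affineOpens) {r : ℕ}
    (φ₀ : Matrix (Fin (r + 1)) (Fin r) (Sec (X ↘ Spec (CommRingCat.of k)) V))
    (hI0 : I0 (X ↘ Spec (CommRingCat.of k)) I₀ V = Ideal.span (Set.range (fs φ₀)))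
    (hinj : Function.Injective φ₀.mulVecLin) (hex : LinearMap.range φ₀.mulVecLin = LinearMap.ker (lc (fs φ₀))) :
    ∃ J' : Ideal (A' ⊗[k] Sec (X ↘ Spec (CommRingCat.of k)) V),
      J'.map (tmap (Sec (X ↘ Spec (CommRingCat.of k)) V) p) = cI (X ↘ Spec (CommRingCat.of k)) V A z.1 ∧
        Module.Flat A' ((A' ⊗[k] Sec (X ↘ Spec (CommRingCat.of k)) V) ⧸ J') := by
  haveI := finiteType_sec (k := k) V
  haveI := flat_cI (X ↘ Spec (CommRingCat.of k)) I₀ z V
  haveI : IsLocallyNoetherian X := LocallyOfFiniteType.isLocallyNoetherian (X ↘ Spec (CommRingCat.of k))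
  have hloc : ∀ (q : Ideal Γ(X, V.1)) (hq : q.IsPrime), ∃ (z : X) (e : Localization.AtPrime q ≃+* X.presheaf.stalk z),
      (I₀.ideal V ≤ q → z ∈ I₀.support) := by
    intro q hq
    have hzV : V.2.fromSpec ⟨q, hq⟩ ∈ V.1 := V.2.range_fromSpec.le ⟨_, rfl⟩
    letI : Algebra Γ(X, V.1) (X.presheaf.stalk (V.2.fromSpec ⟨q, hq⟩)) :=
      X.presheaf.algebra_section_stalk ⟨_, hzV⟩
    haveI : IsLocalization.AtPrime (X.presheaf.stalk (V.2.fromSpec ⟨q, hq⟩)) q := V.2.isLocalization_stalk' ⟨q, hq⟩ hzV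
    refine ⟨_, (IsLocalization.algEquiv q.primeCompl (Localization.AtPrime q)
      (X.presheaf.stalk (V.2.fromSpec ⟨q, hq⟩))).toRingEquiv, fun hle => ?_⟩
    rw [Scheme.IdealSheafData.mem_support_iff_of_mem hzV]
    exact ((V.2.fromSpec_image_zeroLocus _).le ⟨⟨q, hq⟩, hle, rfl⟩).1
  haveI hCM : LocCoh.IsCohenMacaulayRing (Sec (X ↘ Spec (CommRingCat.of k)) V) :=
    (show LocCoh.IsCohenMacaulayRing Γ(X, V.1) from
      { IsLocallyNoetherian.component_noetherian V with
        isCohenMacaulayLocalRing_localization := fun q hq => by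
          obtain ⟨z, e, -⟩ := hloc q hq
          haveI := Groth.Agent.Lib.Cyc.SmoothReg.isRegularLocalRing_stalk (X ↘ Spec (CommRingCat.of k)) z
          haveI := Groth.Agent.H25.CMUnmixed.isCohenMacaulayLocalRing_of_regular (X.presheaf.stalk z)
          exact Groth.Agent.Lib.Excellent.Transport.isCohenMacaulayLocalRing_of_ringEquiv e.symm })
  refine exists_lift_HB (Sec (X ↘ Spec (CommRingCat.of k)) V) p hp.1 φ₀ hinj hex (fun q hq hle => ?_)
    (cI (X ↘ Spec (CommRingCat.of k)) V A z.1) ((res0_cI (X ↘ Spec (CommRingCat.of k)) I₀ z V).trans hI0)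
  have key : ∀ (q : Ideal Γ(X, V.1)) (hq : q.IsPrime), I₀.ideal V ≤ q → (2 : ℕ∞) ≤ q.height := by
    intro q hq hle
    obtain ⟨z, e, hz⟩ := hloc q hq
    obtain ⟨y, rfl⟩ : z ∈ Set.range I₀.subschemeι := by
      rw [Scheme.IdealSheafData.range_subschemeι]
      exact hz hle
    have h7 : ((2 : ℕ∞) : WithBot ℕ∞) ≤ (q.height : WithBot ℕ∞) := by
      rw [← IsLocalization.AtPrime.ringKrullDim_eq_height q (Localization.AtPrime q), ringKrullDim_eq_of_ringEquiv e,
        ← hcodim y]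
      exact le_add_of_nonneg_left ringKrullDim_nonneg_of_nontrivial
    exact WithBot.coe_le_coe.1 h7
  exact key q hq (hI0.le.trans hle)

/-- **Local lifts.** -/
theorem locLift (hCM : ∀ y : I₀.subscheme, LocCoh.IsCohenMacaulayLocalRing (I₀.subscheme.presheaf.stalk y))
    (hcodim : ∀ y : I₀.subscheme, ringKrullDim (I₀.subscheme.presheaf.stalk y) + 2 =
      ringKrullDim (X.presheaf.stalk (I₀.subschemeι.base y)))
    {A' A : Art k k} (p : A' ⟶ A) (hp : Art.IsSemismallExt p)
    (z : (localHilb X (X ↘ Spec (CommRingCat.of k)) I₀).obj A) :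
    LocLift (X ↘ Spec (CommRingCat.of k)) I₀ p z := by
  intro U q hq
  haveI := (flatOver_iff (X ↘ Spec (CommRingCat.of k)) z.1).1 z.2.1
  by_cases hs : q ∈ I₀.support
  · obtain ⟨y, rfl⟩ : q ∈ Set.range I₀.subschemeι := by
      rw [Scheme.IdealSheafData.range_subschemeι]
      exact hs
    have := Groth.Agent.Lib.Cyc.SmoothReg.isRegularLocalRing_stalk (X ↘ Spec (CommRingCat.of k)) (I₀.subschemeι.base y)
    have : IsLocallyNoetherian X := LocallyOfFiniteType.isLocallyNoetherian (X ↘ Spec (CommRingCat.of k))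
    have : IsNoetherianRing Γ(X, U.1) := IsLocallyNoetherian.component_noetherian U
    let R := X.presheaf.stalk (I₀.subschemeι.base y)
    let K := (I₀.subschemeι.ker.ideal U).map (X.presheaf.germ U.1 (I₀.subschemeι.base y) hq).hom
    have hker : RingHom.ker (I₀.subschemeι.stalkMap y).hom = K := by
      refine le_antisymm (Groth.Agent.Lib.Cyc.Dev.SchemeCase.ker_stalkMap_le I₀.subschemeι U y hq) ?_
      rw [Ideal.map_le_iff_le_comap]
      intro a ha
      rw [Scheme.Hom.ker_apply, RingHom.mem_ker] at ha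
      show (I₀.subschemeι.stalkMap y).hom _ = 0
      rw [Scheme.Hom.germ_stalkMap_apply, ha, map_zero]
    let eY : (R ⧸ K) ≃+* I₀.subscheme.presheaf.stalk y :=
      (Ideal.quotEquivOfEq hker.symm).trans (RingHom.quotientKerEquivOfSurjective (I₀.subschemeι.stalkMap_surjective y))
    have := hCM y
    have : LocCoh.IsCohenMacaulayLocalRing (R ⧸ K) :=
      Groth.Agent.Lib.Excellent.Transport.isCohenMacaulayLocalRing_of_ringEquiv eY.symm
    obtain ⟨r, Φ, h1, -, h2, h3⟩ := Groth.Agent.S11449.result R K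
      (by rw [ringKrullDim_eq_of_ringEquiv eY]; exact hcodim y)
    letI : Algebra Γ(X, U.1) R := X.presheaf.algebra_section_stalk ⟨I₀.subschemeι.base y, hq⟩
    have : IsLocalization.AtPrime R (U.2.primeIdealOf ⟨I₀.subschemeι.base y, hq⟩).asIdeal :=
      U.2.isLocalization_stalk ⟨I₀.subschemeι.base y, hq⟩
    obtain ⟨g, hg, ψ, hψ⟩ := Groth.Agent.Lib.HB62.exists_spread (U.2.primeIdealOf ⟨I₀.subschemeι.base y, hq⟩).asIdeal R
      (I₀.subschemeι.ker.ideal U) Φ h1 h2 h3
    letI : Algebra Γ(X, U.1) Γ(X, X.basicOpen g) := (X.presheaf.map (homOfLE (X.basicOpen_le g)).op).hom.toAlgebra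
    have : IsLocalization.Away g Γ(X, X.basicOpen g) := U.2.isLocalization_basicOpen g
    obtain ⟨h4, h5, h6⟩ := hψ Γ(X, X.basicOpen g)
    let V : X.affineOpens := X.affineBasicOpen (U := U) g
    let φ₀ : Matrix (Fin (r + 1)) (Fin r) (Sec (X ↘ Spec (CommRingCat.of k)) V) := ψ.map (algebraMap Γ(X, U.1) Γ(X, X.basicOpen g))
    have hI0 : I0 (X ↘ Spec (CommRingCat.of k)) I₀ V = Ideal.span (Set.range (fs φ₀)) := by
      show I₀.ideal V = _
      refine Eq.trans ?_ (h4.trans (I₀.subschemeι.ker.map_ideal_basicOpen U g)).symm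
      rw [I₀.ker_subschemeι]
    have hqV : I₀.subschemeι.base y ∈ V.1 := by
      show I₀.subschemeι.base y ∈ X.basicOpen g
      rw [Scheme.mem_basicOpen _ g _ hq]
      exact (IsLocalization.AtPrime.isUnit_to_map_iff R (U.2.primeIdealOf ⟨I₀.subschemeι.base y, hq⟩).asIdeal g).mpr hg
    exact ⟨V, X.basicOpen_le g, hqV, exists_lift_at I₀ hcodim p hp z V φ₀ hI0 h5 h6⟩
  · rw [Scheme.IdealSheafData.mem_support_iff_of_mem hq] at hs
    obtain ⟨g, hgI, hqg⟩ : ∃ g ∈ (I₀.ideal U : Set Γ(X, U.1)), q ∈ X.basicOpen g := by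
      by_contra hne
      exact hs ((Scheme.mem_zeroLocus_iff _ _ _).2 fun g hg hqg => hne ⟨g, hg, hqg⟩)
    refine ⟨X.affineBasicOpen g, X.basicOpen_le g, hqg, LiftSplit.exists_lift_koszul (r := 1) (f := fun _ => 1)
      (Sec (X ↘ Spec (CommRingCat.of k)) (X.affineBasicOpen g)) p hp _ ?_ ?_⟩
    · intro a ha
      refine ⟨0, fun _ => rfl, fun _ _ => neg_zero.symm, fun i => ?_⟩
      fin_cases i
      simpa using ha
    · rw [res0_cI]
      have h1 : (X.presheaf.map (homOfLE (X.basicOpen_le g)).op).hom g ∈ I₀.ideal (X.affineBasicOpen g) := by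
        rw [← I₀.map_ideal (U := X.affineBasicOpen g) (V := U) (X.basicOpen_le g)]
        exact Ideal.mem_map_of_mem _ hgI
      have h2 : IsUnit ((X.presheaf.map (homOfLE (X.basicOpen_le g)).op).hom g) :=
        RingedSpace.isUnit_res_basicOpen _ g
      show I₀.ideal (X.affineBasicOpen g) = _
      rw [Ideal.eq_top_of_isUnit_mem _ h1 h2]
      exact (Ideal.eq_top_of_isUnit_mem _ (Ideal.subset_span (Set.mem_range.2 ⟨0, rfl⟩)) isUnit_one).symm

end Groth.Agent.Lib.ArtinFun.CMTwo
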