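import Groth.Agent.Lib.ArtinFun.CMTwo.Glob
import Groth.Agent.Lib.ArtinFun.LciLocal
import Groth.Agent.Lib.ArtinFun.SemismallFibre
import Groth.Agent.Lib.Ample.QAffCrit

/-!
# Locally unobstructed subschemes with `H¹(Hom(I, O/I)) = 0` are unobstructed
-/

noncomputable section

universe u

open CategoryTheory CategoryTheory.Limits AlgebraicGeometry ArtFun ArtFun.Art
open scoped TensorProduct

namespace Groth.Agent.Lib.ArtinFun.CMTwo

open FlatIdealFP LocalHilbAffine LocalHilbGlue LocalHilbTangent LiftAlg LiftSplit PQMod LiftExt LciLocal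
open Groth.Agent.Lib.RefHull.SecHom Groth.Agent.Lib.TensorMod.Dual

variable {k : Type u} [Field k] {X : Scheme.{u}} (x : X ⟶ specPt k) (I₀ : X.IdealSheafData)

/-- Surjectivity along a semismall extension. -/
theorem surjective_map_of_H1_hom [DCoh.HasSheafHom (ClSub.idealMod I₀)]
    (hloc : ∀ {A' A : Art k k} (p : A' ⟶ A), Art.IsSemismallExt p →
      ∀ z : (localHilb X x I₀).obj A, LocLift x I₀ p z)
    (h : Subsingleton (Coh.HH X ((DCoh.sheafHom (ClSub.idealMod I₀)).obj (ClSub.quotMod I₀)) 1))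
    {A' A : Art k k} (p : A' ⟶ A) (hp : Art.IsSemismallExt p) :
    Function.Surjective ((localHilb X x I₀).map p) := by
  intro z
  classical
  haveI := isNoetherian_base A'
  haveI : Module.Finite k ↥(RingHom.ker p.toAlgHom) :=
    Module.Finite.of_injective ((RingHom.ker p.toAlgHom).subtype.restrictScalars k) Subtype.val_injective
  haveI : (ClSub.idealMod I₀).IsQuasicoherent := Groth.Agent.Lib.Ample.QAffCrit.isQCoh_idealMod I₀
  let b := Module.finBasis k ↥(RingHom.ker p.toAlgHom)
  obtain ⟨D⟩ := nonempty_pqData x I₀ p z (den₁ x I₀ p z) (fun U V hV => map_rmap_den₁ x I₀ p z hV)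
    (den₁_le x I₀ p z)
  choose ι hι using fun j => exists_inj x I₀ p hp b z D j
  obtain ⟨π, hπ⟩ := exists_proj x I₀ p hp z D
  have w := desc_comp x I₀ p b z ι hι π hπ
  have hS := LiftExt.shortExact x I₀ p hp b z ι hι π hπ
  have hK := subsingleton_H1_kernel_post (ClSub.idealMod I₀) ι π w hS h
  obtain ⟨f, hf⟩ := exists_preimage_top (post (ClSub.idealMod I₀) π) hK
    (_root_.RefHull.ofHom (𝟙 (ClSub.idealMod I₀)) ⊤) fun y => by
      obtain ⟨U, hU, hyU, -⟩ := exists_isAffineOpen_mem_and_subset (X := X) (x := y) (TopologicalSpace.Opens.mem_top y)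
      obtain ⟨V, -, hyV, J', hJ', hflat⟩ := hloc p hp z ⟨U, hU⟩ y hyU
      haveI := hflat
      haveI := flat_cI x I₀ z V
      have hex : ∀ s : Γ(ClSub.idealMod I₀, V.1), ∃ v ∈ J', res0 (Sec x V) A' v = incl x I₀ V s := fun s => by
        refine (Ideal.mem_map_iff_of_surjective _ (res0_surjective _ A')).1 ?_
        rw [← map_res0_tmap (Sec x V) p, hJ', res0_cI]
        exact incl_mem x I₀ V s
      choose v hvJ hv using hex
      have hle : J' ≤ pre x I₀ p z V := le_preI (Sec x V) p hJ'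
      let σ : Γ(ClSub.idealMod I₀, V.1) → Γ(D.E, V.1) := fun s => D.cls V ⟨v s, hle (hvJ s)⟩
      have huniq : ∀ s w' (hw : w' ∈ J'), res0 (Sec x V) A' w' = incl x I₀ V s → σ s = D.cls V ⟨w', hle hw⟩ := by
        intro s w' hw e
        rw [← sub_eq_zero, ← map_sub, D.cls_eq_zero_iff]
        exact Ideal.mul_mono_left hle (mem_mul_mC (Sec x V) J' (sub_mem (hvJ s) hw) ((map_sub (res0 (Sec x V) A') (v s) w').trans (by rw [hv, e, sub_self])))
      let φ : Γ(ClSub.idealMod I₀, V.1) →+ Γ(D.E, V.1) := AddMonoidHom.mk' σ fun s t => by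
        refine (huniq (s + t) _ (add_mem (hvJ s) (hvJ t)) (by rw [map_add, hv, hv, map_add])).trans ?_
        exact map_add (D.cls V) ⟨v s, hle (hvJ s)⟩ ⟨v t, hle (hvJ t)⟩
      have hφ : ∀ r m, φ (r • m) = rf (le_refl V.1) r • φ m := fun r m => by
        rw [rf_self]
        refine (huniq (r • m) _ (Ideal.mul_mem_left J' ((1 : A') ⊗ₜ[k] (show Sec x V from r)) (hvJ m))
          (by rw [map_mul, res0_tmul, map_one, one_smul, hv, incl_smul])).trans ?_
        exact D.cls_smul V r _ _ rfl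
      obtain ⟨g, hg⟩ := exists_sec_of_linear V.2 le_rfl φ hφ
      refine ⟨V.1, hyV, g, sec_ext_of_affine V.2 le_rfl fun m => ?_⟩
      rw [app_post, hg]
      refine Eq.trans (incl_injective x I₀ V ((hπ V _).trans (hv m))) ?_
      refine (sec_ext fun y' hy' => ?_).symm
      rw [germ_app, germ_rs]
      exact _root_.RefHull.stalkMapₗ_germ (𝟙 (ClSub.idealMod I₀)) y' hy' m
  obtain ⟨s, hs⟩ := exists_hom_of_section f
  have hsπ : s ≫ π = 𝟙 (ClSub.idealMod I₀) := HomAffine.hom_ext_affine fun U m => by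
    show π.app U.1 (s.app U.1 m) = m
    rw [hs]
    have e1 := congrArg (fun g => rs (_root_.RefHull.homSh (ClSub.idealMod I₀) (ClSub.idealMod I₀)) (le_top : U.1 ≤ ⊤) g) hf
    have e2 : rs (_root_.RefHull.homSh (ClSub.idealMod I₀) (ClSub.idealMod I₀)) (le_top : U.1 ≤ ⊤)
        ((post (ClSub.idealMod I₀) π).app ⊤ f) =
        (post (ClSub.idealMod I₀) π).app U.1 (rs (_root_.RefHull.homSh (ClSub.idealMod I₀) D.E) le_top f) :=
      (HomAffine.app_map _ le_top f).symm
    have e3 := congrArg (fun g => app g le_rfl m) (e2.symm.trans e1)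
    rw [app_post] at e3
    have e4 : app (rs (_root_.RefHull.homSh (ClSub.idealMod I₀) D.E) le_top f) le_rfl m = app f le_top m :=
      sec_ext fun y hy => by rw [germ_app, germ_app]; rfl
    rw [e4] at e3
    refine e3.trans (sec_ext fun y hy => ?_)
    rw [germ_app]
    exact _root_.RefHull.stalkMapₗ_germ (𝟙 (ClSub.idealMod I₀)) y hy m
  haveI := hS.mono_f
  let t : D.E ⟶ ⨁ fun _ : Fin _ => ClSub.quotMod I₀ :=
    hS.exact.lift (𝟙 D.E - π ≫ s) (by
      show (𝟙 D.E - π ≫ s) ≫ π = 0
      rw [Preadditive.sub_comp, Category.assoc, hsπ, Category.id_comp, Category.comp_id, sub_self])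
  refine exists_lift_of_retraction x I₀ p hp b z ι hι (fun j => t ≫ biproduct.π _ j) fun j l => ?_
  have hl : ι l ≫ t = biproduct.ι (fun _ => ClSub.quotMod I₀) l := by
    haveI : Mono (biproduct.desc ι) := hS.mono_f
    rw [← cancel_mono (biproduct.desc ι), Category.assoc, biproduct.ι_desc]
    refine Eq.trans (congrArg (ι l ≫ ·) (hS.exact.lift_f _ _)) ?_
    have hz : ι l ≫ π = 0 := by rw [← biproduct.ι_desc ι l, Category.assoc, w, comp_zero]
    rw [Preadditive.comp_sub, Category.comp_id, ← Category.assoc, hz, zero_comp, sub_zero]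
  rw [← Category.assoc, hl, biproduct.ι_π]
  split_ifs with hlj
  · subst hlj; simp
  · rfl

end Groth.Agent.Lib.ArtinFun.CMTwo
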