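import Groth.Agent.Lib.ArtinFun.CMTwo.Bridge
import Groth.Agent.Lib.ArtinFun.CMTwo.Split
import Groth.Agent.Lib.ArtinFun.CMTwo.LocLift
import Groth.Agent.Lib.ArtinFun.QuotModIso

/-!
# Unobstructedness for an arbitrary closed immersion of Cohen-Macaulay type of codimension two
-/

noncomputable section

universe u

open CategoryTheory CategoryTheory.Limits AlgebraicGeometry TopologicalSpace ArtFun

namespace Groth.Agent.Lib.ArtinFun.CMTwo

open Groth.Agent.Lib

variable {X Y : Scheme.{u}} (i : Y ⟶ X) [IsClosedImmersion i]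

/-- `H¹(X, Hom(I, O/I))` vanishes with `H¹(Y, N)`. -/
theorem subsingleton_H1_hom_quotMod' [DCoh.HasSheafHom (ClSub.idealMod i.ker)]
    [DCoh.HasSheafHom (Omega.conormal i)]
    (h : Subsingleton (Coh.HH Y ((DCoh.sheafHom (Omega.conormal i)).obj (Coh.structureModule Y)) 1)) :
    Subsingleton (Coh.HH X ((DCoh.sheafHom (ClSub.idealMod i.ker)).obj (ClSub.quotMod i.ker)) 1) := by
  let I := ClSub.idealMod i.ker
  let C := Omega.conormal i
  let adj₁ : DCoh.tensorBi.obj I ⋙ Scheme.Modules.pullback i ⊣ Scheme.Modules.pushforward i ⋙ DCoh.sheafHom I :=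
    (DCoh.sheafHomAdj I).comp (Scheme.Modules.pullbackPushforwardAdjunction i)
  let adj₂ : Scheme.Modules.pullback i ⋙ DCoh.tensorBi.obj C ⊣ DCoh.sheafHom C ⋙ Scheme.Modules.pushforward i :=
    (Scheme.Modules.pullbackPushforwardAdjunction i).comp (DCoh.sheafHomAdj C)
  let η : DCoh.tensorBi.obj I ⋙ Scheme.Modules.pullback i ≅ Scheme.Modules.pullback i ⋙ DCoh.tensorBi.obj C :=
    NatIso.ofComponents (fun N => ((DerivedOX.PullTensor.pullComparison i).iso I N).symm) fun {N N'} b => by
      have h1 := (DerivedOX.PullTensor.pullComparison i).natural₂ I b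
      exact (Iso.comp_inv_eq _).2 (((Category.assoc _ _ _).trans ((Iso.eq_inv_comp _).2 h1.symm).symm).symm)
  let e : Scheme.Modules.pushforward i ⋙ DCoh.sheafHom I ≅ DCoh.sheafHom C ⋙ Scheme.Modules.pushforward i :=
    (adj₁.ofNatIsoLeft η).rightAdjointUniq adj₂
  obtain ⟨q⟩ := QuotModIso.nonempty_iso_quotMod i
  refine SqZeroLift.Criteria.subsingleton_HH_of_iso
    ((e.app (Coh.structureModule Y)).symm ≪≫ (DCoh.sheafHom I).mapIso q) ?_
  let M := (DCoh.sheafHom C).obj (Coh.structureModule Y)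
  have hB : Opens.IsBasis {W : Opens X.toTopCat | IsAffineOpen (X := X) W} := X.isBasis_affineOpens
  have hinj : Function.Injective (ZarCoh.PushH.pushH i.base (Coh.toAb M) 1) :=
    (ZarCoh.Compare.hTop (Coh.toAb M) 1).symm.injective.comp
      (((ZarCoh.Push.bijective_and_injective ⊤ hB 0 (Coh.toAb M) (ZarCoh.Push.van_zero (Coh.toAb M))).2).comp
        (ZarCoh.Compare.hTop _ 1).injective)
  haveI : Subsingleton (CohTop.H (Coh.toAb M) 1) := h
  exact hinj.subsingleton

variable {k : Type u} [Field k] [X.Over (Spec (CommRingCat.of k))] [Smooth (X ↘ Spec (CommRingCat.of k))]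

/-- Unobstructedness. -/
theorem surjective_map_CM (hCM : ∀ y : Y, LocCoh.IsCohenMacaulayLocalRing (Y.presheaf.stalk y))
    (hcodim : ∀ y : Y, ringKrullDim (Y.presheaf.stalk y) + 2 = ringKrullDim (X.presheaf.stalk (i.base y)))
    [DCoh.HasSheafHom (Omega.conormal i)]
    (h : Subsingleton (Coh.HH Y ((DCoh.sheafHom (Omega.conormal i)).obj (Coh.structureModule Y)) 1))
    {A' A : Art k k} (p : A' ⟶ A) (hp : Art.IsSemismallExt p) :
    Function.Surjective ((localHilb X (X ↘ Spec (CommRingCat.of k)) i.ker).map p) := by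
  haveI := SqZeroLift.ExtVanish.hasSheafHom' (ClSub.idealMod i.ker)
  haveI : IsIso i.toImage := inferInstanceAs (IsIso i.toImage)
  have hst : ∀ y : Y, ∃ e : i.ker.subscheme.presheaf.stalk (i.toImage y) ≃+* Y.presheaf.stalk y,
      i.ker.subschemeι.base (i.toImage y) = i.base y := fun y =>
    ⟨(asIso (i.toImage.stalkMap y)).commRingCatIsoToRingEquiv, congr($(i.toImage_imageι) y)⟩
  refine surjective_map_of_H1_hom (X ↘ Spec (CommRingCat.of k)) i.ker
    (fun q hq z => locLift i.ker (fun y' => ?_) (fun y' => ?_) q hq z)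
    (subsingleton_H1_hom_quotMod' i h) p hp
  · obtain ⟨y, rfl⟩ := i.toImage.surjective y'
    obtain ⟨e, -⟩ := hst y
    haveI := hCM y
    exact Groth.Agent.Lib.Excellent.Transport.isCohenMacaulayLocalRing_of_ringEquiv e.symm
  · obtain ⟨y, rfl⟩ := i.toImage.surjective y'
    obtain ⟨e, he⟩ := hst y
    rw [ringKrullDim_eq_of_ringEquiv e, hcodim y]
    exact congrArg (fun z => ringKrullDim (X.presheaf.stalk z)) he.symm

end Groth.Agent.Lib.ArtinFun.CMTwo
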