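import Groth.Agent.H18.Sec.HomIso
import Groth.Agent.Lib.CohDelta.Basic
import Groth.Agent.Lib.CohDelta.AffCover
import Groth.Agent.Lib.SpecCoh.Acyclic
import Groth.Agent.Lib.SqZeroLift.ExtVanish

/-!
# Sections locally in the image of a map, and postcomposition on the sheaf Hom
-/

noncomputable section

universe u

open CategoryTheory CategoryTheory.Limits AlgebraicGeometry TopologicalSpace Opposite

namespace Groth.Agent.Lib.ArtinFun.CMTwo

open Groth.Agent.Lib Groth.Agent.Lib.ZarCoh.Basic Groth.Agent.Lib.CohDelta.Basic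
open Groth.Agent.Lib.TensorMod.Basic Groth.Agent.Lib.TensorMod.Free Groth.Agent.Lib.RefHull.SecHom Groth.Agent.H18.Sec.HomIso

variable {X : Scheme.{u}}

/-- A section which is locally in the image is in the image when `H¹` of the kernel vanishes. -/
theorem exists_preimage_top {F G : X.Modules} (u : F ⟶ G)
    (h : Subsingleton (Coh.HH X (kernel u) 1)) (g : Γ(G, (⊤ : X.Opens)))
    (hloc : ∀ x : X, ∃ (V : X.Opens) (_ : x ∈ V) (f : Γ(F, V)),
      u.app V f = G.presheaf.map (homOfLE (le_top : V ≤ ⊤)).op g) :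
    ∃ f : Γ(F, (⊤ : X.Opens)), u.app ⊤ f = g := by
  choose V hxV f hf using hloc
  haveI : Mono (Abelian.image.ι u) := inferInstance
  let S : ShortComplex X.Modules :=
    ShortComplex.mk (kernel.ι u) (Abelian.factorThruImage u) (by
      rw [← cancel_mono (Abelian.image.ι u), Category.assoc, Abelian.image.fac, kernel.condition, zero_comp])
  have hS : S.ShortExact :=
    { exact := ShortComplex.exact_of_f_is_kernel _ (KernelFork.IsLimit.ofι' _ _ fun {W} l hl =>
        ⟨kernel.lift u l (by
          rw [← Abelian.image.fac u, ← Category.assoc]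
          exact (congrArg (· ≫ Abelian.image.ι u) hl).trans zero_comp), kernel.lift_ι _ _ _⟩) }
  have hAb := abS_shortExact hS
  let ι' := abMap (Abelian.image.ι u)
  haveI : Mono ι' := inferInstanceAs (Mono ((abF X).map (Abelian.image.ι u)))
  have hinj : ∀ W : X.Opens, Function.Injective ((Abelian.image.ι u).app W) := fun W a b hab => by
    apply (homEquiv W (Coh.toAb (Abelian.image u))).symm.injective
    rw [← cancel_mono ι']
    apply (homEquiv W _).injective
    rw [homEquiv_comp, homEquiv_comp, Equiv.apply_symm_apply, Equiv.apply_symm_apply]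
    exact hab
  have hfac : ∀ (W : X.Opens) (a : Γ(F, W)),
      (Abelian.image.ι u).app W ((Abelian.factorThruImage u).app W a) = u.app W a := fun W a =>
    congr($(congrArg (fun t : F ⟶ G => t.app W) (Abelian.image.fac u)) a)
  have hex : ∃ g' : Γ(Abelian.image u, (⊤ : X.Opens)), (Abelian.image.ι u).app ⊤ g' = g := by
    let Sh : TopCat.Sheaf Ab X := ⟨(Abelian.image u).presheaf, (Abelian.image u).isSheaf⟩
    let sf : ∀ x : X, Γ(Abelian.image u, V x) := fun x => (Abelian.factorThruImage u).app (V x) (f x)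
    obtain ⟨g', hg', -⟩ := Sh.existsUnique_gluing' V ⊤ (fun x => homOfLE le_top)
      (fun x _ => Opens.mem_iSup.mpr ⟨x, hxV x⟩) sf fun a b => by
        refine hinj _ ?_
        show (Abelian.image.ι u).app _ ((Abelian.image u).presheaf.map (homOfLE inf_le_left).op (sf a)) =
          (Abelian.image.ι u).app _ ((Abelian.image u).presheaf.map (homOfLE inf_le_right).op (sf b))
        have e : ∀ {W W' : X.Opens} (hW : W' ≤ W) (a : Γ(Abelian.image u, W)),
            (Abelian.image.ι u).app W' ((Abelian.image u).presheaf.map (homOfLE hW).op a) =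
              G.presheaf.map (homOfLE hW).op ((Abelian.image.ι u).app W a) := fun hW a =>
          congr($((Abelian.image.ι u).mapPresheaf.naturality (homOfLE hW).op) a)
        rw [e, e, hfac, hfac, hf, hf, ← ConcreteCategory.comp_apply, ← ConcreteCategory.comp_apply,
          ← G.presheaf.map_comp, ← G.presheaf.map_comp]
        rfl
    refine ⟨g', (TopCat.Sheaf.eq_of_locally_eq' (⟨G.presheaf, G.isSheaf⟩ : TopCat.Sheaf Ab X) V ⊤
      (fun x => homOfLE le_top) (fun x _ => Opens.mem_iSup.mpr ⟨x, hxV x⟩) _ _ fun x => ?_)⟩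
    show G.presheaf.map _ _ = G.presheaf.map _ _
    rw [← hf x, ← hfac]
    exact (congr($((Abelian.image.ι u).mapPresheaf.naturality (homOfLE (le_top : V x ≤ ⊤)).op) g')).symm.trans
      (congrArg ((Abelian.image.ι u).app (V x)) (hg' x))
  obtain ⟨g', rfl⟩ := hex
  haveI : Subsingleton (Abelian.Ext.{u} (Zs.obj (⊤ : X.Opens)) (abS S).X₁ 1) :=
    (ZarCoh.Compare.hTop (Coh.toAb (kernel u)) 1).symm.toEquiv.subsingleton_congr.2 h
  obtain ⟨y, hy⟩ := Abelian.Ext.covariant_sequence_exact₃ (Zs.obj (⊤ : X.Opens)) hAb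
    (Abelian.Ext.mk₀ ((homEquiv ⊤ (Coh.toAb (Abelian.image u))).symm g')) (n₁ := 1) rfl
    (Subsingleton.elim _ _)
  obtain ⟨y, rfl⟩ := (Abelian.Ext.mk₀_bijective _ _).2 y
  refine ⟨homEquiv ⊤ (Coh.toAb F) y, ?_⟩
  have e : y ≫ abMap (Abelian.factorThruImage u) = (homEquiv ⊤ (Coh.toAb (Abelian.image u))).symm g' := by
    rw [Abelian.Ext.mk₀_comp_mk₀] at hy
    exact (Abelian.Ext.mk₀_bijective _ _).1 hy
  have e2 := congrArg (homEquiv ⊤ _) e
  rw [Equiv.apply_symm_apply, homEquiv_comp] at e2
  rw [← hfac]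
  exact congrArg ((Abelian.image.ι u).app ⊤) e2

variable (A : X.Modules) {M N : X.Modules}

/-- Postcomposition on the sheaf Hom. -/
def post (π : M ⟶ N) : _root_.RefHull.homSh A M ⟶ _root_.RefHull.homSh A N :=
  curry (ev A M ≫ π)

theorem app_post (π : M ⟶ N) {U : X.Opens} (g : Γ(_root_.RefHull.homSh A M, U)) (m : Γ(A, U)) :
    app ((post A π).app U g) le_rfl m = π.app U (app g le_rfl m) := by
  rw [← pairM_ev, ← pairM_ev (G := M), ← pairM_comp]
  show pairM _ _ _ = pairM (ev A M ≫ π) m g
  conv_rhs => rw [← tmap_curry_ev (ev A M ≫ π), pairM_tmap_comp]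
  rfl

/-- `H¹` of the kernel of postcomposition. -/
theorem subsingleton_H1_kernel_post [DCoh.HasSheafHom A] {Q : X.Modules} [HasFiniteBiproducts X.Modules] {n : ℕ}
    (ι : Fin n → (Q ⟶ M)) (π : M ⟶ N) (w : biproduct.desc ι ≫ π = 0)
    (hS : (ShortComplex.mk (biproduct.desc ι) π w).ShortExact)
    (h : Subsingleton (Coh.HH X ((DCoh.sheafHom A).obj Q) 1)) :
    Subsingleton (Coh.HH X (kernel (post A π)) 1) := by
  let R := DCoh.sheafHom A
  haveI : R.Additive := (DCoh.sheafHomAdj A).right_adjoint_additive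
  haveI : PreservesLimits R := (DCoh.sheafHomAdj A).rightAdjoint_preservesLimits
  obtain ⟨eM⟩ := nonempty_iso A M
  have key : ∀ P : X.Modules, ∃ e : R.obj P ≅ _root_.RefHull.homSh A P,
      e.hom = curry ((ExtHH.SheafHom.adjEquiv A _ P).symm (𝟙 (R.obj P))) := fun P => by
    let c : CohB1.tensorMod A (R.obj P) ⟶ P := (ExtHH.SheafHom.adjEquiv A _ P).symm (𝟙 _)
    refine ⟨⟨curry c, ExtHH.SheafHom.adjEquiv A _ P (ev A P), ?_, ?_⟩, rfl⟩
    · rw [← ExtHH.SheafHom.adjEquiv_left, tmap_curry_ev]
      exact Equiv.apply_symm_apply _ _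
    · rw [comp_curry, ← curry_ev]
      refine congrArg curry ?_
      apply (ExtHH.SheafHom.adjEquiv A _ P).injective
      rw [ExtHH.SheafHom.adjEquiv_left, Equiv.apply_symm_apply, Category.comp_id]
  obtain ⟨e₁, he₁⟩ := key M
  obtain ⟨e₂, he₂⟩ := key N
  have sq : R.map π ≫ e₂.hom = e₁.hom ≫ post A π := by
    rw [he₁, he₂, post, comp_curry, comp_curry, ← Category.assoc, tmap_curry_ev]
    refine congrArg curry ((ExtHH.SheafHom.adjEquiv A _ N).injective ?_)
    rw [ExtHH.SheafHom.adjEquiv_left, Equiv.apply_symm_apply, Category.comp_id,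
      ExtHH.SheafHom.adjEquiv_right, Equiv.apply_symm_apply, Category.id_comp]
  let k₁ : kernel (post A π) ≅ kernel (R.map π) := (kernel.mapIso (R.map π) (post A π) e₁ e₂ sq).symm
  let k₂ : R.obj (⨁ fun _ : Fin n => Q) ≅ kernel (R.map π) :=
    haveI := hS.mono_f
    IsLimit.conePointUniqueUpToIso (KernelFork.mapIsLimit _ hS.fIsKernel R) (limit.isLimit (parallelPair (R.map π) 0))
  haveI : PreservesBiproduct (fun _ : Fin n => Q) R := inferInstance
  exact SqZeroLift.Criteria.subsingleton_HH_of_iso ((R.mapBiproduct _).symm ≪≫ k₂ ≪≫ k₁.symm)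
    (CohDelta.AffCover.subsingleton_HH_biproduct (fun _ : Fin n => R.obj Q) 1 fun _ => h)

/-- A global homomorphism from a section of the sheaf Hom. -/
theorem exists_hom_of_section {A M : X.Modules} (g : Γ(_root_.RefHull.homSh A M, (⊤ : X.Opens))) :
    ∃ φ : A ⟶ M, ∀ U : X.Opens, ∀ m, φ.app U m = app g (le_top : U ≤ ⊤) m := by
  refine ⟨⟨PresheafOfModules.homMk
    { app := fun U => AddCommGrpCat.ofHom (app g (le_top : U.unop ≤ ⊤)).toAddMonoidHom
      naturality := fun {U V} i => by
        ext m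
        refine sec_ext fun y hy => ?_
        show M.presheaf.germ _ y hy (app g le_top (A.presheaf.map i m)) =
          M.presheaf.germ _ y hy (M.presheaf.map i (app g le_top m))
        rw [germ_app, TopCat.Presheaf.germ_res_apply', TopCat.Presheaf.germ_res_apply', germ_app] }
    (fun U r m => (app g (le_top : U.unop ≤ ⊤)).map_smul r m)⟩, fun U m => rfl⟩

end Groth.Agent.Lib.ArtinFun.CMTwo
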